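import Cfsg.Agent.Chev.Check2

set_option autoImplicit false
set_option maxRecDepth 100000

namespace Cfsg.Agent.Chev

open Cfsg.Lie

/-- The certificate for type E7. -/
def certE7 : Cert where
  half := 63
  perms := [0x3e4fa3d8f43c8f03b8ec3a8e8398e4388e0378dc368b82d8b42c8b02b8ac2a8a82989a2609625092104d935cd534cd133ccd32cc931ca4288a02789c314c3304bf2f4902388c2288821884208801f87c1e8781d8741c8701b86c1a83f0f43b0e4371785c16858158350cc310bc2d0ac2909c2508cbb1a0661906218054148501384c1284811844108200781c0681805814048100380c028080180400003,0x3e8f83d8ed3ace939cf43c8f03b8e4388e0378dc368d8358d4348d0338c530cc12fccc328c8318bc2e8b82d8b42c8b02b89b26497254902388c2285f2b0aa2a0a6248a528ca127c8821884208801f87c1e8781d8741c85d16c5915c68150521404e274701b86c1a867194631844c1284811844108400f8340c8300b83d0ec390dc2c0a82809824088200781c068180580c028080181504c1103c0400800,0x3e8f73e0f43c8f03b8ec3a8e8398d935cd534cd133ce4388e0378dc368cc328c8318c4308c02f8bb2f0b82d8b42c8b02b8a528ca127cac2a8a82989c2408e2308a1a49b264972548821884208801f87c1e8781d87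41c86719463184931c06e1b06a17854148501385d16c5915c4c12848118441083e1043c0e8380d8340c8300b8200781c068180582d0ac2909c2508c14048100380c028080180201400,0x3e8f83d4f63c8f03b8ec394e3384ea3a0e6378dc368d8358d4334cb324d2340ce318c4308c02f4be2e8b82d8b42b4ab2a4b22c0ae298a4288a02749e268982589325088218841c49123c8d208801f87c1e8781bc6d1ac8b1d8741c8661a464188601705f16858158541304a120531444f11844108400f03f0e8380d8340b02a0a0330c42f09824088200781c050120401b064170380c028080100700800,0x3e8f83d8f33d0f03b8eb3b0e8398e437cdd388e0368d834cd1358d4338cc328c7320c4308bf300bc2e8b82ccb12d8b42b8ac2a8a72a0a42889f2809c2689825496248902388b2308220077224871f87c1d4732147a1e06e1c46c1a86819067188601785a1745815852154501384c1184412c49108400f83a0f4380d8320d4300b82c098240ac29088200681807c1d058140480e0440c028060240400800,0x3e8f83d8f43c4f23b8ec3a4ea398e3390e0378db370d7360d4348cf340cc324ca318c4304c22f8bc2e8b72e0b42c8af2c0ac2a4aa298a4284a22789c2689726094248902348e22888214861f87b20c792047c1d0771c8701b06f1a86819862194601785c1605b15854140531384a1344811842114400f83c0e03b0d8340c0330b82a0b428098220941e0841c0681606414040130380c0200b0180400800,0x3e8f83d8f43c8ef3c0ec3a8e73a0e4384e2374de368d8354d6344d2338cb330c8318c3310c02f8bc2e8b82d4b62c4b22b8ab2b0a8298a3290a02789c2649a258942488f2408c2288722084204821f47f1e07b1d8721d4701b86a1b46819864180631785c16856164541484e1444c1204b11047108400f83c0e8360e4340c82e0c42c0a02b09027088200701f0601b05812054100380a034080180400800]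
  longest := [0, 1, 2, 0, 3, 1, 2, 0, 3, 2, 4, 3, 1, 2, 0, 3, 2, 4, 3, 1, 5, 4, 3, 1, 2, 0, 3, 2, 4, 3, 1, 5, 4, 3, 2, 0, 6, 5, 4, 3, 1, 2, 0, 3, 2, 4, 3, 1, 5, 4, 3, 2, 0, 6, 5, 4, 3, 1, 2, 3, 4, 5, 6]

theorem packE7 : packOK chevE7 = true := by decide +kernel

theorem simplesE7 : ((List.range 7).all fun i => simpleOK chevE7 certE7 i) = true := by decide +kernel

theorem reflE7_0 : reflOK chevE7 certE7 0 = true := by decide +kernel

theorem reflE7_1 : reflOK chevE7 certE7 1 = true := by decide +kernel

theorem reflE7_2 : reflOK chevE7 certE7 2 = true := by decide +kernel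

theorem reflE7_3 : reflOK chevE7 certE7 3 = true := by decide +kernel

theorem reflE7_4 : reflOK chevE7 certE7 4 = true := by decide +kernel

theorem reflE7_5 : reflOK chevE7 certE7 5 = true := by decide +kernel

theorem reflE7_6 : reflOK chevE7 certE7 6 = true := by decide +kernel

theorem miscE7 : (reachOK chevE7 certE7 && longestOK chevE7 certE7 && primOK chevE7) = true := by decide +kernel

end Cfsg.Agent.Chev
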