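import Cfsg.Agent.Chev.GraphCheck

set_option autoImplicit false
set_option maxRecDepth 100000

namespace Cfsg.Agent.Chev.Graph

open Cfsg.Lie

def gdataD4 : List (List ℕ × List ℕ × List Bool) := [
  ([0, 1, 2, 3], [0, 1, 2, 3, 4, 5, 6, 7, 8, 9, 10, 11, 12, 13, 14, 15, 16, 17, 18, 19, 20, 21, 22, 23], [true, true, true, true, true, true, true, true, true, true, true, true, true, true, true, true, true, true, true, true, true, true, true, true]),
  ([0, 1, 3, 2], [0, 1, 3, 2, 4, 5, 6, 8, 7, 9, 11, 10, 13, 12, 14, 16, 15, 17, 18, 19, 21, 20, 22, 23], [true, true, true, true, true, true, true, true, true, true, true, true, true, true, true, true, true, true, true, true, true, true, true, true]),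
  ([2, 1, 0, 3], [0, 1, 2, 6, 7, 10, 3, 4, 8, 9, 5, 11, 12, 18, 14, 15, 19, 20, 13, 16, 17, 21, 22, 23], [true, true, true, false, false, true, false, false, true, true, true, true, true, true, true, true, false, false, true, false, false, true, true, true]),
  ([3, 1, 2, 0], [0, 1, 6, 3, 8, 11, 2, 7, 4, 9, 10, 5, 18, 13, 14, 19, 16, 21, 12, 15, 20, 17, 22, 23], [true, true, false, true, false, true, false, true, false, true, true, true, true, true, true, false, true, false, true, false, true, false, true, true]),
  ([2, 1, 3, 0], [0, 1, 6, 2, 7, 10, 3, 8, 4, 9, 11, 5, 18, 12, 14, 19, 15, 20, 13, 16, 21, 17, 22, 23], [true, true, false, true, false, true, false, true, false, true, true, true, true, true, true, false, true, false, true, false, true, false, true, true]),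
  ([3, 1, 0, 2], [0, 1, 3, 6, 8, 11, 2, 4, 7, 9, 5, 10, 13, 18, 14, 16, 19, 21, 12, 15, 17, 20, 22, 23], [true, true, true, false, false, true, false, false, true, true, true, true, true, true, true, true, false, false, true, false, false, true, true, true])]

theorem gdataOKD4 : (gdataD4.all fun d => graphOK chevD4 d.1 d.2.1 d.2.2) = true := by decide +kernel

theorem gpermD4 : ∀ π : Equiv.Perm (Fin chevD4.rank), chevD4.IsDiagramSymmetry π →
    (gdataD4.any fun d => permB chevD4 π d.1 d.2.1) = true :=
  permB_of_symB (by decide +kernel)

def gdataE6 : List (List ℕ × List ℕ × List Bool) := [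
  ([0, 1, 2, 3, 4, 5], [0, 1, 2, 3, 4, 5, 6, 7, 8, 9, 10, 11, 12, 13, 14, 15, 16, 17, 18, 19, 20, 21, 22, 23, 24, 25, 26, 27, 28, 29, 30, 31, 32, 33, 34, 35, 36, 37, 38, 39, 40, 41, 42, 43, 44, 45, 46, 47, 48, 49, 50, 51, 52, 53, 54, 55, 56, 57, 58, 59, 60, 61, 62, 63, 64, 65, 66, 67, 68, 69, 70, 71], [true, true, true, true, true, true, true, true, true, true, true, true, true, true, true, true, true, true, true, true, true, true, true, true, true, true, true, true, true, true, true, true, true, true, true, true, true, true, true, true, true, true, true, true, true, true, true, true, true, true, true, true, true, true, true, true, true, true, true, true, true, true, true, true, true, true, true, true, true, true, true, true]),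
  ([5, 1, 4, 3, 2, 0], [0, 1, 2, 5, 16, 3, 6, 17, 8, 19, 22, 11, 26, 30, 33, 35, 4, 7, 18, 9, 20, 23, 10, 21, 24, 25, 12, 27, 31, 34, 13, 28, 32, 14, 29, 15, 56, 42, 57, 39, 43, 58, 37, 40, 44, 59, 46, 47, 50, 61, 48, 51, 62, 53, 64, 67, 36, 38, 41, 45, 60, 49, 52, 63, 54, 65, 68, 55, 66, 69, 70, 71], [true, true, true, true, false, true, true, false, true, false, false, true, false, true, false, true, false, false, true, false, true, true, false, true, true, true, false, true, false, true, true, false, true, false, true, true, true, true, false, true, false, true, true, false, true, false, true, true, true, false, true, true, false, true, false, false, true, false, true, false, true, false, false, true, false, true, true, false, true, true, true, true])]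

theorem gdataOKE6 : (gdataE6.all fun d => graphOK chevE6 d.1 d.2.1 d.2.2) = true := by decide +kernel

theorem gpermE6 : ∀ π : Equiv.Perm (Fin chevE6.rank), chevE6.IsDiagramSymmetry π →
    (gdataE6.any fun d => permB chevE6 π d.1 d.2.1) = true :=
  permB_of_symB (by decide +kernel)

end Cfsg.Agent.Chev.Graph
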