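import Mathlib.Tactic.IntervalCases
import Cfsg.Agent.Chev.RepCheck
import Cfsg.Agent.Chev.CertE6

set_option autoImplicit false
set_option maxRecDepth 100000

namespace Cfsg.Agent.Chev.Tits

open Cfsg.Lie

/-- Level 0 for type E6. -/
def levE6_0 : Lev :=
  ⟨[[], [0]], [[1, 0, 0, 0, 0, 0], [-1, 0, 1, 0, 0, 0]],
    [[(1, 6)], [(0, 6)]]⟩

theorem levOKE6_0 : levOK chevE6 certE6 0 levE6_0 = true := by decide +kernel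

/-- Level 1 for type E6. -/
def levE6_1 : Lev :=
  ⟨[[], [1]], [[0, 1, 0, 0, 0, 0], [0, -1, 0, 1, 0, 0]],
    [[(0, 0), (1, 6)], [(1, 0), (0, 6)]]⟩

theorem levOKE6_1 : levOK chevE6 certE6 1 levE6_1 = true := by decide +kernel

/-- Level 2 for type E6. -/
def levE6_2 : Lev :=
  ⟨[[], [2], [0, 2]], [[0, 0, 1, 0, 0, 0], [1, 0, -1, 1, 0, 0], [-1, 0, 0, 1, 0, 0]],
    [[(0, 0), (0, 1), (1, 6)], [(2, 6), (1, 1), (0, 6)], [(1, 6), (2, 1), (2, 0)]]⟩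

theorem levOKE6_2 : levOK chevE6 certE6 2 levE6_2 = true := by decide +kernel

/-- Level 3 for type E6. -/
def levE6_3 : Lev :=
  ⟨[[], [3], [1, 3], [2, 3], [2, 1, 3], [0, 2, 3], [0, 2, 1, 3], [3, 2, 1, 3], [3, 0, 2, 1, 3], [2, 3, 0, 2, 1, 3]], [[0, 0, 0, 1, 0, 0], [0, 1, 1, -1, 1, 0], [0, -1, 1, 0, 1, 0], [1, 1, -1, 0, 1, 0], [1, -1, -1, 1, 1, 0], [-1, 1, 0, 0, 1, 0], [-1, -1, 0, 1, 1, 0], [1, 0, 0, -1, 2, 0], [-1, 0, 1, -1, 2, 0], [0, 0, -1, 0, 2, 0]],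
    [[(0, 0), (0, 1), (0, 2), (1, 6)], [(1, 0), (2, 6), (3, 6), (0, 6)], [(2, 0), (1, 6), (4, 6), (2, 1)], [(5, 6), (4, 6), (1, 6), (3, 2)], [(6, 6), (3, 6), (2, 6), (7, 6)], [(3, 6), (6, 6), (5, 0), (5, 2)], [(4, 6), (5, 6), (6, 0), (8, 6)], [(8, 6), (7, 2), (7, 1), (4, 6)], [(7, 6), (8, 2), (9, 6), (6, 6)], [(9, 1), (9, 2), (8, 6), (9, 0)]]⟩

theorem levOKE6_3 : levOK chevE6 certE6 3 levE6_3 = true := by decide +kernel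

/-- Level 4 for type E6. -/
def levE6_4 : Lev :=
  ⟨[[], [4], [3, 4], [1, 3, 4], [2, 3, 4], [2, 1, 3, 4], [0, 2, 3, 4], [0, 2, 1, 3, 4], [3, 2, 1, 3, 4], [3, 0, 2, 1, 3, 4], [4, 3, 2, 1, 3, 4], [2, 3, 0, 2, 1, 3, 4], [4, 3, 0, 2, 1, 3, 4], [4, 2, 3, 0, 2, 1, 3, 4], [3, 4, 2, 3, 0, 2, 1, 3, 4], [1, 3, 4, 2, 3, 0, 2, 1, 3, 4]], [[0, 0, 0, 0, 1, 0], [0, 0, 0, 1, -1, 1], [0, 1, 1, -1, 0, 1], [0, -1, 1, 0, 0, 1], [1, 1, -1, 0, 0, 1], [1, -1, -1, 1, 0, 1], [-1, 1, 0, 0, 0, 1], [-1, -1, 0, 1, 0, 1], [1, 0, 0, -1, 1, 1], [-1, 0, 1, -1, 1, 1], [1, 0, 0, 0, -1, 2], [0, 0, -1, 0, 1, 1], [-1, 0, 1, 0, -1, 2], [0, 0, -1, 1, -1, 2], [0, 1, 0, -1, 0, 2], [0, -1, 0, 0, 0, 2]],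
    [[(0, 0), (0, 1), (0, 2), (0, 3), (1, 6)], [(1, 0), (1, 1), (1, 2), (2, 6), (0, 6)], [(2, 0), (3, 6), (4, 6), (1, 6), (2, 3)], [(3, 0), (2, 6), (5, 6), (3, 1), (3, 3)], [(6, 6), (5, 6), (2, 6), (4, 2), (4, 3)], [(7, 6), (4, 6), (3, 6), (8, 6), (5, 3)], [(4, 6), (7, 6), (6, 0), (6, 2), (6, 3)], [(5, 6), (6, 6), (7, 0), (9, 6), (7, 3)], [(9, 6), (8, 2), (8, 1), (5, 6), (10, 6)], [(8, 6), (9, 2), (11, 6), (7, 6), (12, 6)], [(12, 6), (10, 2), (10, 1), (10, 3), (8, 6)], [(11, 1), (11, 2), (9, 6), (11, 0), (13, 6)], [(10, 6), (12, 2), (13, 6), (12, 3), (9, 6)], [(13, 1), (13, 2), (12, 6), (14, 6), (11, 6)], [(14, 1), (15, 6), (14, 3), (13, 6), (14, 0)], [(15, 1), (14, 6), (15, 3), (15, 2), (15, 0)]]⟩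

theorem levOKE6_4 : levOK chevE6 certE6 4 levE6_4 = true := by decide +kernel

/-- Level 5 for type E6. -/
def levE6_5 : Lev :=
  ⟨[[], [5], [4, 5], [3, 4, 5], [1, 3, 4, 5], [2, 3, 4, 5], [2, 1, 3, 4, 5], [0, 2, 3, 4, 5], [0, 2, 1, 3, 4, 5], [3, 2, 1, 3, 4, 5], [3, 0, 2, 1, 3, 4, 5], [4, 3, 2, 1, 3, 4, 5], [2, 3, 0, 2, 1, 3, 4, 5], [4, 3, 0, 2, 1, 3, 4, 5], [5, 4, 3, 2, 1, 3, 4, 5], [4, 2, 3, 0, 2, 1, 3, 4, 5], [5, 4, 3, 0, 2, 1, 3, 4, 5], [3, 4, 2, 3, 0, 2, 1, 3, 4, 5], [5, 4, 2, 3, 0, 2, 1, 3, 4, 5], [1, 3, 4, 2, 3, 0, 2, 1, 3, 4, 5], [5, 3, 4, 2, 3, 0, 2, 1, 3, 4, 5], [5, 1, 3, 4, 2, 3, 0, 2, 1, 3, 4, 5], [4, 5, 3, 4, 2, 3, 0, 2, 1, 3, 4, 5], [4, 5, 1, 3, 4, 2, 3, 0, 2, 1, 3, 4, 5], [3, 4, 5, 1, 3, 4, 2, 3, 0, 2, 1, 3, 4, 5], [2, 3, 4, 5, 1, 3, 4, 2, 3, 0, 2, 1, 3, 4, 5], [0, 2, 3,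 4, 5, 1, 3, 4, 2, 3, 0, 2, 1, 3, 4, 5]], [[0, 0, 0, 0, 0, 1], [0, 0, 0, 0, 1, -1], [0, 0, 0, 1, -1, 0], [0, 1, 1, -1, 0, 0], [0, -1, 1, 0, 0, 0], [1, 1, -1, 0, 0, 0], [1, -1, -1, 1, 0, 0], [-1, 1, 0, 0, 0, 0], [-1, -1, 0, 1, 0, 0], [1, 0, 0, -1, 1, 0], [-1, 0, 1, -1, 1, 0], [1, 0, 0, 0, -1, 1], [0, 0, -1, 0, 1, 0], [-1, 0, 1, 0, -1, 1], [1, 0, 0, 0, 0, -1], [0, 0, -1, 1, -1, 1], [-1, 0, 1, 0, 0, -1], [0, 1, 0, -1, 0, 1], [0, 0, -1, 1, 0, -1], [0, -1, 0, 0, 0, 1], [0, 1, 0, -1, 1, -1], [0, -1, 0, 0, 1, -1], [0, 1, 0, 0, -1, 0], [0, -1, 0, 1, -1, 0], [0, 0, 1, -1, 0, 0], [1, 0, -1, 0, 0, 0], [-1, 0, 0, 0, 0, 0]],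
    [[(0, 0), (0, 1), (0, 2), (0, 3), (0, 4), (1, 6)], [(1, 0), (1, 1), (1, 2), (1, 3), (2, 6), (0, 6)], [(2, 0), (2, 1), (2, 2), (3, 6), (1, 6), (2, 4)], [(3, 0), (4, 6), (5, 6), (2, 6), (3, 3), (3, 4)], [(4, 0), (3, 6), (6, 6), (4, 1), (4, 3), (4, 4)], [(7, 6), (6, 6), (3, 6), (5, 2), (5, 3), (5, 4)], [(8, 6), (5, 6), (4, 6), (9, 6), (6, 3), (6, 4)], [(5, 6), (8, 6), (7, 0), (7, 2), (7, 3), (7, 4)], [(6, 6), (7, 6), (8, 0), (10, 6), (8, 3), (8, 4)], [(10, 6), (9, 2), (9, 1), (6, 6), (11, 6), (9, 4)], [(9, 6), (10, 2), (12, 6), (8, 6), (13, 6), (10, 4)], [(13, 6), (11, 2), (11, 1), (11, 3), (9, 6), (14, 6)], [(12, 1), (12, 2), (10, 6), (12, 0), (15, 6), (12, 4)], [(11, 6), (13, 2), (15, 6), (13, 3), (10, 6), (16, 6)], [(16, 6), (14, 2), (14, 1), (14, 3), (14, 4), (11, 6)], [(15, 1), (15,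 2), (13, 6), (17, 6), (12, 6), (18, 6)], [(14, 6), (16, 2), (18, 6), (16, 3), (16, 4), (13, 6)], [(17, 1), (19, 6), (17, 3), (15, 6), (17, 0), (20, 6)], [(18, 1), (18, 2), (16, 6), (20, 6), (18, 4), (15, 6)], [(19, 1), (17, 6), (19, 3), (19, 2), (19, 0), (21, 6)], [(20, 1), (21, 6), (20, 3), (18, 6), (22, 6), (17, 6)], [(21, 1), (20, 6), (21, 3), (21, 2), (23, 6), (19, 6)], [(22, 1), (23, 6), (22, 3), (22, 4), (20, 6), (22, 0)], [(23, 1), (22, 6), (23, 3), (24, 6), (21, 6), (23, 0)], [(24, 1), (24, 4), (25, 6), (23, 6), (24, 2), (24, 0)], [(26, 6), (25, 4), (24, 6), (25, 3), (25, 2), (25, 0)], [(25, 6), (26, 4), (26, 1), (26, 3), (26, 2), (26, 0)]]⟩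

theorem levOKE6_5 : levOK chevE6 certE6 5 levE6_5 = true := by decide +kernel

/-- All the levels for type E6. -/
def levsE6 (k : ℕ) : Lev := [levE6_0, levE6_1, levE6_2, levE6_3, levE6_4, levE6_5].getD k ⟨[[]], [[]], []⟩

theorem corSimpleE6 : corSimpleOK chevE6 = true := by decide +kernel

theorem levsOKE6 : ∀ k < 6, levOK chevE6 certE6 k (levsE6 k) = true := by
  intro k hk
  interval_cases k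
  · exact levOKE6_0
  · exact levOKE6_1
  · exact levOKE6_2
  · exact levOKE6_3
  · exact levOKE6_4
  · exact levOKE6_5

end Cfsg.Agent.Chev.Tits
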