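import Mathlib.Tactic.IntervalCases
import Cfsg.Agent.Chev.RepCheck
import Cfsg.Agent.Chev.CertE7

set_option autoImplicit false
set_option maxRecDepth 100000

namespace Cfsg.Agent.Chev.Tits

open Cfsg.Lie

/-- Level 0 for type E7. -/
def levE7_0 : Lev :=
  ⟨[[], [0]], [[1, 0, 0, 0, 0, 0, 0], [-1, 0, 1, 0, 0, 0, 0]],
    [[(1, 7)], [(0, 7)]]⟩

theorem levOKE7_0 : levOK chevE7 certE7 0 levE7_0 = true := by decide +kernel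

/-- Level 1 for type E7. -/
def levE7_1 : Lev :=
  ⟨[[], [1]], [[0, 1, 0, 0, 0, 0, 0], [0, -1, 0, 1, 0, 0, 0]],
    [[(0, 0), (1, 7)], [(1, 0), (0, 7)]]⟩

theorem levOKE7_1 : levOK chevE7 certE7 1 levE7_1 = true := by decide +kernel

/-- Level 2 for type E7. -/
def levE7_2 : Lev :=
  ⟨[[], [2], [0, 2]], [[0, 0, 1, 0, 0, 0, 0], [1, 0, -1, 1, 0, 0, 0], [-1, 0, 0, 1, 0, 0, 0]],
    [[(0, 0), (0, 1), (1, 7)], [(2, 7), (1, 1), (0, 7)], [(1, 7), (2, 1), (2, 0)]]⟩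

theorem levOKE7_2 : levOK chevE7 certE7 2 levE7_2 = true := by decide +kernel

/-- Level 3 for type E7. -/
def levE7_3 : Lev :=
  ⟨[[], [3], [1, 3], [2, 3], [2, 1, 3], [0, 2, 3], [0, 2, 1, 3], [3, 2, 1, 3], [3, 0, 2, 1, 3], [2, 3, 0, 2, 1, 3]], [[0, 0, 0, 1, 0, 0, 0], [0, 1, 1, -1, 1, 0, 0], [0, -1, 1, 0, 1, 0, 0], [1, 1, -1, 0, 1, 0, 0], [1, -1, -1, 1, 1, 0, 0], [-1, 1, 0, 0, 1, 0, 0], [-1, -1, 0, 1, 1, 0, 0], [1, 0, 0, -1, 2, 0, 0], [-1, 0, 1, -1, 2, 0, 0], [0, 0, -1, 0, 2, 0, 0]],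
    [[(0, 0), (0, 1), (0, 2), (1, 7)], [(1, 0), (2, 7), (3, 7), (0, 7)], [(2, 0), (1, 7), (4, 7), (2, 1)], [(5, 7), (4, 7), (1, 7), (3, 2)], [(6, 7), (3, 7), (2, 7), (7, 7)], [(3, 7), (6, 7), (5, 0), (5, 2)], [(4, 7), (5, 7), (6, 0), (8, 7)], [(8, 7), (7, 2), (7, 1), (4, 7)], [(7, 7), (8, 2), (9, 7), (6, 7)], [(9, 1), (9, 2), (8, 7), (9, 0)]]⟩

theorem levOKE7_3 : levOK chevE7 certE7 3 levE7_3 = true := by decide +kernel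

/-- Level 4 for type E7. -/
def levE7_4 : Lev :=
  ⟨[[], [4], [3, 4], [1, 3, 4], [2, 3, 4], [2, 1, 3, 4], [0, 2, 3, 4], [0, 2, 1, 3, 4], [3, 2, 1, 3, 4], [3, 0, 2, 1, 3, 4], [4, 3, 2, 1, 3, 4], [2, 3, 0, 2, 1, 3, 4], [4, 3, 0, 2, 1, 3, 4], [4, 2, 3, 0, 2, 1, 3, 4], [3, 4, 2, 3, 0, 2, 1, 3, 4], [1, 3, 4, 2, 3, 0, 2, 1, 3, 4]], [[0, 0, 0, 0, 1, 0, 0], [0, 0, 0, 1, -1, 1, 0], [0, 1, 1, -1, 0, 1, 0], [0, -1, 1, 0, 0, 1, 0], [1, 1, -1, 0, 0, 1, 0], [1, -1, -1, 1, 0, 1, 0], [-1, 1, 0, 0, 0, 1, 0], [-1, -1, 0, 1, 0, 1, 0], [1, 0, 0, -1, 1, 1, 0], [-1, 0, 1, -1, 1, 1, 0], [1, 0, 0, 0, -1, 2, 0], [0, 0, -1, 0, 1, 1, 0], [-1, 0, 1, 0, -1, 2, 0], [0, 0, -1, 1, -1, 2, 0], [0, 1, 0, -1, 0, 2, 0], [0, -1, 0, 0, 0, 2, 0]],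
    [[(0, 0), (0, 1), (0, 2), (0, 3), (1, 7)], [(1, 0), (1, 1), (1, 2), (2, 7), (0, 7)], [(2, 0), (3, 7), (4, 7), (1, 7), (2, 3)], [(3, 0), (2, 7), (5, 7), (3, 1), (3, 3)], [(6, 7), (5, 7), (2, 7), (4, 2), (4, 3)], [(7, 7), (4, 7), (3, 7), (8, 7), (5, 3)], [(4, 7), (7, 7), (6, 0), (6, 2), (6, 3)], [(5, 7), (6, 7), (7, 0), (9, 7), (7, 3)], [(9, 7), (8, 2), (8, 1), (5, 7), (10, 7)], [(8, 7), (9, 2), (11, 7), (7, 7), (12, 7)], [(12, 7), (10, 2), (10, 1), (10, 3), (8, 7)], [(11, 1), (11, 2), (9, 7), (11, 0), (13, 7)], [(10, 7), (12, 2), (13, 7), (12, 3), (9, 7)], [(13, 1), (13, 2), (12, 7), (14, 7), (11, 7)], [(14, 1), (15, 7), (14, 3), (13, 7), (14, 0)], [(15, 1), (14, 7), (15, 3), (15, 2), (15, 0)]]⟩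

theorem levOKE7_4 : levOK chevE7 certE7 4 levE7_4 = true := by decide +kernel

/-- Level 5 for type E7. -/
def levE7_5 : Lev :=
  ⟨[[], [5], [4, 5], [3, 4, 5], [1, 3, 4, 5], [2, 3, 4, 5], [2, 1, 3, 4, 5], [0, 2, 3, 4, 5], [0, 2, 1, 3, 4, 5], [3, 2, 1, 3, 4, 5], [3, 0, 2, 1, 3, 4, 5], [4, 3, 2, 1, 3, 4, 5], [2, 3, 0, 2, 1, 3, 4, 5], [4, 3, 0, 2, 1, 3, 4, 5], [5, 4, 3, 2, 1, 3, 4, 5], [4, 2, 3, 0, 2, 1, 3, 4, 5], [5, 4, 3, 0, 2, 1, 3, 4, 5], [3, 4, 2, 3, 0, 2, 1, 3, 4, 5], [5, 4, 2, 3, 0, 2, 1, 3, 4, 5], [1, 3, 4, 2, 3, 0, 2, 1, 3, 4, 5], [5, 3, 4, 2, 3, 0, 2, 1, 3, 4, 5], [5, 1, 3, 4, 2, 3, 0, 2, 1, 3, 4, 5], [4, 5, 3, 4, 2, 3, 0, 2, 1, 3, 4, 5], [4, 5, 1, 3, 4, 2, 3, 0, 2, 1, 3, 4, 5], [3, 4, 5, 1, 3, 4, 2, 3, 0, 2, 1, 3, 4, 5], [2, 3, 4, 5, 1, 3, 4, 2, 3,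 0, 2, 1, 3, 4, 5], [0, 2, 3, 4, 5, 1, 3, 4, 2, 3, 0, 2, 1, 3, 4, 5]], [[0, 0, 0, 0, 0, 1, 0], [0, 0, 0, 0, 1, -1, 1], [0, 0, 0, 1, -1, 0, 1], [0, 1, 1, -1, 0, 0, 1], [0, -1, 1, 0, 0, 0, 1], [1, 1, -1, 0, 0, 0, 1], [1, -1, -1, 1, 0, 0, 1], [-1, 1, 0, 0, 0, 0, 1], [-1, -1, 0, 1, 0, 0, 1], [1, 0, 0, -1, 1, 0, 1], [-1, 0, 1, -1, 1, 0, 1], [1, 0, 0, 0, -1, 1, 1], [0, 0, -1, 0, 1, 0, 1], [-1, 0, 1, 0, -1, 1, 1], [1, 0, 0, 0, 0, -1, 2], [0, 0, -1, 1, -1, 1, 1], [-1, 0, 1, 0, 0, -1, 2], [0, 1, 0, -1, 0, 1, 1], [0, 0, -1, 1, 0, -1, 2], [0, -1, 0, 0, 0, 1, 1], [0, 1, 0, -1, 1, -1, 2], [0, -1, 0, 0, 1, -1, 2], [0, 1, 0, 0, -1, 0, 2], [0, -1, 0, 1, -1, 0, 2], [0, 0, 1, -1, 0, 0, 2], [1, 0, -1, 0, 0, 0, 2], [-1, 0, 0, 0, 0, 0, 2]],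
    [[(0, 0), (0, 1), (0, 2), (0, 3), (0, 4), (1, 7)], [(1, 0), (1, 1), (1, 2), (1, 3), (2, 7), (0, 7)], [(2, 0), (2, 1), (2, 2), (3, 7), (1, 7), (2, 4)], [(3, 0), (4, 7), (5, 7), (2, 7), (3, 3), (3, 4)], [(4, 0), (3, 7), (6, 7), (4, 1), (4, 3), (4, 4)], [(7, 7), (6, 7), (3, 7), (5, 2), (5, 3), (5, 4)], [(8, 7), (5, 7), (4, 7), (9, 7), (6, 3), (6, 4)], [(5, 7), (8, 7), (7, 0), (7, 2), (7, 3), (7, 4)], [(6, 7), (7, 7), (8, 0), (10, 7), (8, 3), (8, 4)], [(10, 7), (9, 2), (9, 1), (6, 7), (11, 7), (9, 4)], [(9, 7), (10, 2), (12, 7), (8, 7), (13, 7), (10, 4)], [(13, 7), (11, 2), (11, 1), (11, 3), (9, 7), (14, 7)], [(12, 1), (12, 2), (10, 7), (12, 0), (15, 7), (12, 4)], [(11, 7), (13, 2), (15, 7), (13, 3), (10, 7), (16, 7)], [(16, 7), (14, 2), (14, 1), (14, 3),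 (14, 4), (11, 7)], [(15, 1), (15, 2), (13, 7), (17, 7), (12, 7), (18, 7)], [(14, 7), (16, 2), (18, 7), (16, 3), (16, 4), (13, 7)], [(17, 1), (19, 7), (17, 3), (15, 7), (17, 0), (20, 7)], [(18, 1), (18, 2), (16, 7), (20, 7), (18, 4), (15, 7)], [(19, 1), (17, 7), (19, 3), (19, 2), (19, 0), (21, 7)], [(20, 1), (21, 7), (20, 3), (18, 7), (22, 7), (17, 7)], [(21, 1), (20, 7), (21, 3), (21, 2), (23, 7), (19, 7)], [(22, 1), (23, 7), (22, 3), (22, 4), (20, 7), (22, 0)], [(23, 1), (22, 7), (23, 3), (24, 7), (21, 7), (23, 0)], [(24, 1), (24, 4), (25, 7), (23, 7), (24, 2), (24, 0)], [(26, 7), (25, 4), (24, 7), (25, 3), (25, 2), (25, 0)], [(25, 7), (26, 4), (26, 1), (26, 3), (26, 2), (26, 0)]]⟩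

theorem levOKE7_5 : levOK chevE7 certE7 5 levE7_5 = true := by decide +kernel

/-- Level 6 for type E7. -/
def levE7_6 : Lev :=
  ⟨[[], [6], [5, 6], [4, 5, 6], [3, 4, 5, 6], [1, 3, 4, 5, 6], [2, 3, 4, 5, 6], [2, 1, 3, 4, 5, 6], [0, 2, 3, 4, 5, 6], [0, 2, 1, 3, 4, 5, 6], [3, 2, 1, 3, 4, 5, 6], [3, 0, 2, 1, 3, 4, 5, 6], [4, 3, 2, 1, 3, 4, 5, 6], [2, 3, 0, 2, 1, 3, 4, 5, 6], [4, 3, 0, 2, 1, 3, 4, 5, 6], [5, 4, 3, 2, 1, 3, 4, 5, 6], [4, 2, 3, 0, 2, 1, 3, 4, 5, 6], [5, 4, 3, 0, 2, 1, 3, 4, 5, 6], [6, 5, 4, 3, 2, 1, 3, 4, 5, 6], [3, 4, 2, 3, 0, 2, 1, 3, 4, 5, 6], [5, 4, 2, 3, 0, 2, 1, 3, 4, 5, 6], [6, 5, 4, 3, 0, 2, 1, 3, 4, 5, 6], [1, 3, 4, 2, 3, 0, 2, 1, 3, 4, 5, 6], [5, 3, 4, 2, 3, 0, 2, 1, 3, 4, 5, 6], [6, 5, 4, 2, 3, 0, 2, 1, 3, 4, 5, 6], [5, 1, 3, 4, 2, 3,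 0, 2, 1, 3, 4, 5, 6], [4, 5, 3, 4, 2, 3, 0, 2, 1, 3, 4, 5, 6], [6, 5, 3, 4, 2, 3, 0, 2, 1, 3, 4, 5, 6], [4, 5, 1, 3, 4, 2, 3, 0, 2, 1, 3, 4, 5, 6], [6, 5, 1, 3, 4, 2, 3, 0, 2, 1, 3, 4, 5, 6], [6, 4, 5, 3, 4, 2, 3, 0, 2, 1, 3, 4, 5, 6], [3, 4, 5, 1, 3, 4, 2, 3, 0, 2, 1, 3, 4, 5, 6], [6, 4, 5, 1, 3, 4, 2, 3, 0, 2, 1, 3, 4, 5, 6], [5, 6, 4, 5, 3, 4, 2, 3, 0, 2, 1, 3, 4, 5, 6], [2, 3, 4, 5, 1, 3, 4, 2, 3, 0, 2, 1, 3, 4, 5, 6], [6, 3, 4, 5, 1, 3, 4, 2, 3, 0, 2, 1, 3, 4, 5, 6], [5, 6, 4, 5, 1, 3, 4, 2, 3, 0, 2, 1, 3, 4, 5, 6], [0, 2, 3, 4, 5, 1, 3, 4, 2, 3, 0, 2, 1, 3, 4, 5, 6], [6, 2, 3, 4, 5, 1, 3, 4, 2, 3, 0, 2, 1, 3, 4, 5, 6], [5, 6, 3, 4, 5, 1, 3, 4, 2, 3, 0, 2, 1, 3, 4, 5, 6], [6, 0, 2, 3, 4, 5, 1, 3, 4, 2, 3, 0, 2, 1, 3, 4, 5, 6], [5, 6, 2, 3, 4, 5, 1, 3,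 4, 2, 3, 0, 2, 1, 3, 4, 5, 6], [4, 5, 6, 3, 4, 5, 1, 3, 4, 2, 3, 0, 2, 1, 3, 4, 5, 6], [5, 6, 0, 2, 3, 4, 5, 1, 3, 4, 2, 3, 0, 2, 1, 3, 4, 5, 6], [4, 5, 6, 2, 3, 4, 5, 1, 3, 4, 2, 3, 0, 2, 1, 3, 4, 5, 6], [4, 5, 6, 0, 2, 3, 4, 5, 1, 3, 4, 2, 3, 0, 2, 1, 3, 4, 5, 6], [3, 4, 5, 6, 2, 3, 4, 5, 1, 3, 4, 2, 3, 0, 2, 1, 3, 4, 5, 6], [3, 4, 5, 6, 0, 2, 3, 4, 5, 1, 3, 4, 2, 3, 0, 2, 1, 3, 4, 5, 6], [1, 3, 4, 5, 6, 2, 3, 4, 5, 1, 3, 4, 2, 3, 0, 2, 1, 3, 4, 5, 6], [1, 3, 4, 5, 6, 0, 2, 3, 4, 5, 1, 3, 4, 2, 3, 0, 2, 1, 3, 4, 5, 6], [2, 3, 4, 5, 6, 0, 2, 3, 4, 5, 1, 3, 4, 2, 3, 0, 2, 1, 3, 4, 5, 6], [2, 1, 3, 4, 5, 6, 0, 2, 3, 4, 5, 1, 3, 4, 2, 3, 0, 2, 1, 3, 4, 5, 6], [3, 2, 1, 3, 4, 5, 6, 0, 2, 3, 4, 5, 1, 3, 4, 2, 3, 0, 2, 1, 3, 4, 5, 6], [4, 3, 2, 1, 3, 4, 5, 6, 0,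 2, 3, 4, 5, 1, 3, 4, 2, 3, 0, 2, 1, 3, 4, 5, 6], [5, 4, 3, 2, 1, 3, 4, 5, 6, 0, 2, 3, 4, 5, 1, 3, 4, 2, 3, 0, 2, 1, 3, 4, 5, 6], [6, 5, 4, 3, 2, 1, 3, 4, 5, 6, 0, 2, 3, 4, 5, 1, 3, 4, 2, 3, 0, 2, 1, 3, 4, 5, 6]], [[0, 0, 0, 0, 0, 0, 1], [0, 0, 0, 0, 0, 1, -1], [0, 0, 0, 0, 1, -1, 0], [0, 0, 0, 1, -1, 0, 0], [0, 1, 1, -1, 0, 0, 0], [0, -1, 1, 0, 0, 0, 0], [1, 1, -1, 0, 0, 0, 0], [1, -1, -1, 1, 0, 0, 0], [-1, 1, 0, 0, 0, 0, 0], [-1, -1, 0, 1, 0, 0, 0], [1, 0, 0, -1, 1, 0, 0], [-1, 0, 1, -1, 1, 0, 0], [1, 0, 0, 0, -1, 1, 0], [0, 0, -1, 0, 1, 0, 0], [-1, 0, 1, 0, -1, 1, 0], [1, 0, 0, 0, 0, -1, 1], [0, 0, -1, 1, -1, 1, 0], [-1, 0, 1, 0, 0, -1, 1], [1, 0, 0, 0, 0, 0, -1], [0, 1, 0, -1, 0, 1, 0], [0, 0, -1, 1, 0, -1, 1], [-1, 0, 1, 0, 0, 0, -1], [0, -1, 0, 0, 0,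 1, 0], [0, 1, 0, -1, 1, -1, 1], [0, 0, -1, 1, 0, 0, -1], [0, -1, 0, 0, 1, -1, 1], [0, 1, 0, 0, -1, 0, 1], [0, 1, 0, -1, 1, 0, -1], [0, -1, 0, 1, -1, 0, 1], [0, -1, 0, 0, 1, 0, -1], [0, 1, 0, 0, -1, 1, -1], [0, 0, 1, -1, 0, 0, 1], [0, -1, 0, 1, -1, 1, -1], [0, 1, 0, 0, 0, -1, 0], [1, 0, -1, 0, 0, 0, 1], [0, 0, 1, -1, 0, 1, -1], [0, -1, 0, 1, 0, -1, 0], [-1, 0, 0, 0, 0, 0, 1], [1, 0, -1, 0, 0, 1, -1], [0, 0, 1, -1, 1, -1, 0], [-1, 0, 0, 0, 0, 1, -1], [1, 0, -1, 0, 1, -1, 0], [0, 0, 1, 0, -1, 0, 0], [-1, 0, 0, 0, 1, -1, 0], [1, 0, -1, 1, -1, 0, 0], [-1, 0, 0, 1, -1, 0, 0], [1, 1, 0, -1, 0, 0, 0], [-1, 1, 1, -1, 0, 0, 0], [1, -1, 0, 0, 0, 0, 0], [-1, -1, 1, 0, 0, 0, 0], [0, 1, -1, 0, 0, 0, 0], [0, -1, -1, 1, 0, 0, 0], [0, 0, 0, -1, 1, 0, 0], [0, 0, 0, 0, -1, 1,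 0], [0, 0, 0, 0, 0, -1, 1], [0, 0, 0, 0, 0, 0, -1]],
    [[(0, 0), (0, 1), (0, 2), (0, 3), (0, 4), (0, 5), (1, 7)], [(1, 0), (1, 1), (1, 2), (1, 3), (1, 4), (2, 7), (0, 7)], [(2, 0), (2, 1), (2, 2), (2, 3), (3, 7), (1, 7), (2, 5)], [(3, 0), (3, 1), (3, 2), (4, 7), (2, 7), (3, 4), (3, 5)], [(4, 0), (5, 7), (6, 7), (3, 7), (4, 3), (4, 4), (4, 5)], [(5, 0), (4, 7), (7, 7), (5, 1), (5, 3), (5, 4), (5, 5)], [(8, 7), (7, 7), (4, 7), (6, 2), (6, 3), (6, 4), (6, 5)], [(9, 7), (6, 7), (5, 7), (10, 7), (7, 3), (7, 4), (7, 5)], [(6, 7), (9, 7), (8, 0), (8, 2), (8, 3), (8, 4), (8, 5)], [(7, 7), (8, 7), (9, 0), (11, 7), (9, 3), (9, 4), (9, 5)], [(11, 7), (10, 2), (10, 1), (7, 7), (12, 7), (10, 4), (10, 5)], [(10, 7), (11, 2), (13, 7), (9, 7), (14, 7), (11, 4), (11, 5)],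 [(14, 7), (12, 2), (12, 1), (12, 3), (10, 7), (15, 7), (12, 5)], [(13, 1), (13, 2), (11, 7), (13, 0), (16, 7), (13, 4), (13, 5)], [(12, 7), (14, 2), (16, 7), (14, 3), (11, 7), (17, 7), (14, 5)], [(17, 7), (15, 2), (15, 1), (15, 3), (15, 4), (12, 7), (18, 7)], [(16, 1), (16, 2), (14, 7), (19, 7), (13, 7), (20, 7), (16, 5)], [(15, 7), (17, 2), (20, 7), (17, 3), (17, 4), (14, 7), (21, 7)], [(21, 7), (18, 2), (18, 1), (18, 3), (18, 4), (18, 5), (15, 7)], [(19, 1), (22, 7), (19, 3), (16, 7), (19, 0), (23, 7), (19, 5)], [(20, 1), (20, 2), (17, 7), (23, 7), (20, 4), (16, 7), (24, 7)], [(18, 7), (21, 2), (24, 7), (21, 3), (21, 4), (21, 5), (17, 7)], [(22, 1), (19, 7), (22, 3), (22, 2), (22, 0), (25, 7), (22, 5)], [(23, 1), (25, 7), (23, 3), (20, 7), (26, 7), (19,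 7), (27, 7)], [(24, 1), (24, 2), (21, 7), (27, 7), (24, 4), (24, 5), (20, 7)], [(25, 1), (23, 7), (25, 3), (25, 2), (28, 7), (22, 7), (29, 7)], [(26, 1), (28, 7), (26, 3), (26, 4), (23, 7), (26, 0), (30, 7)], [(27, 1), (29, 7), (27, 3), (24, 7), (30, 7), (27, 5), (23, 7)], [(28, 1), (26, 7), (28, 3), (31, 7), (25, 7), (28, 0), (32, 7)], [(29, 1), (27, 7), (29, 3), (29, 2), (32, 7), (29, 5), (25, 7)], [(30, 1), (32, 7), (30, 3), (30, 4), (27, 7), (33, 7), (26, 7)], [(31, 1), (31, 4), (34, 7), (28, 7), (31, 2), (31, 0), (35, 7)], [(32, 1), (30, 7), (32, 3), (35, 7), (29, 7), (36, 7), (28, 7)], [(33, 1), (36, 7), (33, 3), (33, 4), (33, 5), (30, 7), (33, 0)], [(37, 7), (34, 4), (31, 7), (34, 3), (34, 2), (34, 0), (38, 7)], [(35, 1), (35, 4), (38, 7), (32, 7),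 (35, 2), (39, 7), (31, 7)], [(36, 1), (33, 7), (36, 3), (39, 7), (36, 5), (32, 7), (36, 0)], [(34, 7), (37, 4), (37, 1), (37, 3), (37, 2), (37, 0), (40, 7)], [(40, 7), (38, 4), (35, 7), (38, 3), (38, 2), (41, 7), (34, 7)], [(39, 1), (39, 4), (41, 7), (36, 7), (42, 7), (35, 7), (39, 0)], [(38, 7), (40, 4), (40, 1), (40, 3), (40, 2), (43, 7), (37, 7)], [(43, 7), (41, 4), (39, 7), (41, 3), (44, 7), (38, 7), (41, 0)], [(42, 1), (42, 4), (44, 7), (42, 5), (39, 7), (42, 2), (42, 0)], [(41, 7), (43, 4), (43, 1), (43, 3), (45, 7), (40, 7), (43, 0)], [(45, 7), (44, 4), (42, 7), (46, 7), (41, 7), (44, 2), (44, 0)], [(44, 7), (45, 4), (45, 1), (47, 7), (43, 7), (45, 2), (45, 0)], [(47, 7), (48, 7), (46, 5), (44, 7), (46, 3), (46, 2), (46, 0)], [(46, 7), (49, 7), (50,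 7), (45, 7), (47, 3), (47, 2), (47, 0)], [(49, 7), (46, 7), (48, 5), (48, 4), (48, 3), (48, 2), (48, 0)], [(48, 7), (47, 7), (51, 7), (49, 4), (49, 3), (49, 2), (49, 0)], [(50, 5), (51, 7), (47, 7), (50, 1), (50, 3), (50, 2), (50, 0)], [(51, 5), (50, 7), (49, 7), (52, 7), (51, 3), (51, 2), (51, 0)], [(52, 5), (52, 1), (52, 4), (51, 7), (53, 7), (52, 2), (52, 0)], [(53, 5), (53, 1), (53, 4), (53, 3), (52, 7), (54, 7), (53, 0)], [(54, 5), (54, 1), (54, 4), (54, 3), (54, 2), (53, 7), (55, 7)], [(55, 5), (55, 1), (55, 4), (55, 3), (55, 2), (55, 0), (54, 7)]]⟩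

theorem levOKE7_6 : levOK chevE7 certE7 6 levE7_6 = true := by decide +kernel

/-- All the levels for type E7. -/
def levsE7 (k : ℕ) : Lev := [levE7_0, levE7_1, levE7_2, levE7_3, levE7_4, levE7_5, levE7_6].getD k ⟨[[]], [[]], []⟩

theorem corSimpleE7 : corSimpleOK chevE7 = true := by decide +kernel

theorem levsOKE7 : ∀ k < 7, levOK chevE7 certE7 k (levsE7 k) = true := by
  intro k hk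
  interval_cases k
  · exact levOKE7_0
  · exact levOKE7_1
  · exact levOKE7_2
  · exact levOKE7_3
  · exact levOKE7_4
  · exact levOKE7_5
  · exact levOKE7_6

end Cfsg.Agent.Chev.Tits
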