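import Mathlib.Tactic.IntervalCases
import Cfsg.Agent.Chev.RepCheck
import Cfsg.Agent.Chev.CertF4

set_option autoImplicit false
set_option maxRecDepth 100000

namespace Cfsg.Agent.Chev.Tits

open Cfsg.Lie

/-- Level 0 for type F4. -/
def levF4_0 : Lev :=
  ⟨[[], [0]], [[1, 0, 0, 0], [-1, 1, 0, 0]],
    [[(1, 4)], [(0, 4)]]⟩

theorem levOKF4_0 : levOK chevF4 certF4 0 levF4_0 = true := by decide +kernel

/-- Level 1 for type F4. -/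
def levF4_1 : Lev :=
  ⟨[[], [1], [0, 1]], [[0, 1, 0, 0], [1, -1, 1, 0], [-1, 0, 1, 0]],
    [[(0, 0), (1, 4)], [(2, 4), (0, 4)], [(1, 4), (2, 0)]]⟩

theorem levOKF4_1 : levOK chevF4 certF4 1 levF4_1 = true := by decide +kernel

/-- Level 2 for type F4. -/
def levF4_2 : Lev :=
  ⟨[[], [2], [1, 2], [0, 1, 2], [2, 1, 2], [2, 0, 1, 2], [1, 2, 0, 1, 2], [2, 1, 2, 0, 1, 2]], [[0, 0, 1, 0], [0, 2, -1, 1], [2, -2, 1, 1], [-2, 0, 1, 1], [2, 0, -1, 2], [-2, 2, -1, 2], [0, -2, 1, 2], [0, 0, -1, 3]],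
    [[(0, 0), (0, 1), (1, 4)], [(1, 0), (2, 4), (0, 4)], [(3, 4), (1, 4), (4, 4)], [(2, 4), (3, 0), (5, 4)], [(5, 4), (4, 1), (2, 4)], [(4, 4), (6, 4), (3, 4)], [(6, 1), (5, 4), (7, 4)], [(7, 1), (7, 0), (6, 4)]]⟩

theorem levOKF4_2 : levOK chevF4 certF4 2 levF4_2 = true := by decide +kernel

/-- Level 3 for type F4. -/
def levF4_3 : Lev :=
  ⟨[[], [3], [2, 3], [1, 2, 3], [0, 1, 2, 3], [2, 1, 2, 3], [2, 0, 1, 2, 3], [3, 2, 1, 2, 3], [1, 2, 0, 1, 2, 3], [3, 2, 0, 1, 2, 3], [2, 1, 2, 0, 1, 2, 3], [3, 1, 2, 0, 1, 2, 3], [3, 2, 1, 2, 0, 1, 2, 3], [2, 3, 1, 2, 0, 1, 2, 3], [2, 3, 2, 1, 2, 0, 1, 2, 3], [1, 2, 3, 1, 2, 0, 1, 2, 3], [1, 2, 3, 2, 1, 2, 0, 1, 2, 3], [0, 1, 2, 3, 1, 2, 0, 1, 2, 3], [0, 1, 2, 3, 2, 1, 2, 0, 1, 2, 3], [2, 1, 2, 3, 2, 1, 2, 0, 1, 2, 3], [2, 0, 1, 2, 3, 2, 1, 2, 0, 1, 2, 3], [1, 2, 0, 1,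 2, 3, 2, 1, 2, 0, 1, 2, 3], [2, 1, 2, 0, 1, 2, 3, 2, 1, 2, 0, 1, 2, 3], [3, 2, 1, 2, 0, 1, 2, 3, 2, 1, 2, 0, 1, 2, 3]], [[0, 0, 0, 1], [0, 0, 1, -1], [0, 2, -1, 0], [2, -2, 1, 0], [-2, 0, 1, 0], [2, 0, -1, 1], [-2, 2, -1, 1], [2, 0, 0, -1], [0, -2, 1, 1], [-2, 2, 0, -1], [0, 0, -1, 2], [0, -2, 2, -1], [0, 0, 1, -2], [0, 2, -2, 1], [0, 2, -1, -1], [2, -2, 0, 1], [2, -2, 1, -1], [-2, 0, 0, 1], [-2, 0, 1, -1], [2, 0, -1, 0], [-2, 2, -1, 0], [0, -2, 1, 0], [0, 0, -1, 1], [0, 0, 0, -1]],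
    [[(0, 0), (0, 1), (0, 2), (1, 4)], [(1, 0), (1, 1), (2, 4), (0, 4)], [(2, 0), (3, 4), (1, 4), (2, 2)], [(4, 4), (2, 4), (5, 4), (3, 2)], [(3, 4), (4, 0), (6, 4), (4, 2)], [(6, 4), (5, 1), (3, 4), (7, 4)], [(5, 4), (8, 4), (4, 4), (9, 4)], [(9, 4), (7, 1), (7, 2), (5, 4)], [(8, 1), (6, 4), (10, 4), (11, 4)], [(7, 4), (11, 4), (9, 2), (6, 4)], [(10, 1), (10, 0), (8, 4), (12, 4)], [(11, 1), (9, 4), (13, 4), (8, 4)], [(12, 1), (12, 0), (14, 4), (10, 4)], [(13, 1), (15, 4), (11, 4), (14, 4)], [(14, 1), (16, 4), (12, 4), (13, 4)], [(17, 4), (13, 4), (15, 2), (16, 4)], [(18, 4), (14, 4), (19, 4), (15, 4)], [(15, 4), (17, 1), (17, 2), (18, 4)], [(16, 4), (18, 1), (20, 4), (17, 4)], [(20, 4), (19, 0), (16, 4), (19, 2)], [(19, 4), (21, 4), (18, 4), (20, 2)], [(21, 0), (20, 4), (22, 4), (21, 2)], [(22, 0), (22, 1),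 (21, 4), (23, 4)], [(23, 0), (23, 1), (23, 2), (22, 4)]]⟩

theorem levOKF4_3 : levOK chevF4 certF4 3 levF4_3 = true := by decide +kernel

/-- All the levels for type F4. -/
def levsF4 (k : ℕ) : Lev := [levF4_0, levF4_1, levF4_2, levF4_3].getD k ⟨[[]], [[]], []⟩

theorem corSimpleF4 : corSimpleOK chevF4 = true := by decide +kernel

theorem levsOKF4 : ∀ k < 4, levOK chevF4 certF4 k (levsF4 k) = true := by
  intro k hk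
  interval_cases k
  · exact levOKF4_0
  · exact levOKF4_1
  · exact levOKF4_2
  · exact levOKF4_3

end Cfsg.Agent.Chev.Tits
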