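import Cfsg.Agent.Chev.ShortGenCheck
import Cfsg.Agent.Chev.CertG2
import Cfsg.Agent.Chev.CertB2
import Cfsg.Agent.Chev.CertD4
import Cfsg.Agent.Chev.CertF4
import Cfsg.Agent.Chev.CertE6
import Cfsg.Agent.Chev.CertE7
import Cfsg.Agent.Chev.CertE8

set_option autoImplicit false
set_option maxRecDepth 100000

namespace Cfsg.Agent.Chev.ShortGen

open Cfsg.Lie

/-- Witnesses for type G2. -/
def witG2 : List (List (List (List ℕ) × ℕ)) :=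
  [[([[]], 0), ([[0], [1]], 3)], []]

theorem witOKG2 : witOK chevG2 certG2 witG2 [1, 3] = true := by decide +kernel

/-- Witnesses for type B2. -/
def witB2 : List (List (List (List ℕ) × ℕ)) :=
  [[([[]], 0), ([[0], [1]], 2)], []]

theorem witOKB2 : witOK chevB2 certB2 witB2 [1, 2] = true := by decide +kernel

/-- Witnesses for type D4. -/
def witD4 : List (List (List (List ℕ) × ℕ)) :=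
  [[([[]], 0), ([[0, 1]], 0), ([[1, 2, 0, 1]], 0), ([[1, 3, 0, 1]], 0)], [([[1, 0]], 0), ([[]], 0), ([[1, 2]], 0), ([[1, 3]], 0)], [([[1, 2, 0, 1]], 0), ([[2, 1]], 0), ([[]], 0), ([[1, 3, 2, 1]], 0)], [([[1, 3, 0, 1]], 0), ([[3, 1]], 0), ([[1, 3, 2, 1]], 0), ([[]], 0)]]

theorem witOKD4 : witOK chevD4 certD4 witD4 [1] = true := by decide +kernel

/-- Witnesses for type F4. -/
def witF4 : List (List (List (List ℕ) × ℕ)) :=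
  [[([[]], 0), ([[0, 1]], 0), ([[1, 0], [2, 1]], 2), ([[2, 1, 0], [3, 2, 1]], 2)], [([[1, 0]], 0), ([[]], 0), ([[1], [2]], 2), ([[2, 1], [3, 2]], 2)], [], []]

theorem witOKF4 : witOK chevF4 certF4 witF4 [1, 2] = true := by decide +kernel

/-- Witnesses for type E6. -/
def witE6 : List (List (List (List ℕ) × ℕ)) :=
  [[([[]], 0), ([[3, 2, 1, 3, 0, 2]], 0), ([[0, 2]], 0), ([[2, 3, 0, 2]], 0), ([[3, 4, 2, 3, 0, 2]], 0), ([[4, 5, 3, 4, 2, 3, 0, 2]], 0)], [([[2, 3, 0, 2, 1, 3]], 0), ([[]], 0), ([[3, 2, 1, 3]], 0), ([[1, 3]], 0), ([[3, 4, 1, 3]], 0), ([[4, 5, 3, 4, 1, 3]], 0)], [([[2, 0]], 0), ([[3, 2, 1, 3]], 0), ([[]], 0), ([[2, 3]], 0), ([[3, 4, 2, 3]], 0), ([[4, 5, 3, 4, 2, 3]], 0)], [([[2, 3, 0, 2]], 0), ([[3, 1]], 0), ([[3, 2]], 0), ([[]], 0), ([[3, 4]], 0), ([[4, 5,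 3, 4]], 0)], [([[2, 3, 4, 0, 2, 3]], 0), ([[3, 4, 1, 3]], 0), ([[3, 4, 2, 3]], 0), ([[4, 3]], 0), ([[]], 0), ([[4, 5]], 0)], [([[2, 3, 4, 5, 0, 2, 3, 4]], 0), ([[3, 4, 5, 1, 3, 4]], 0), ([[3, 4, 5, 2, 3, 4]], 0), ([[4, 5, 3, 4]], 0), ([[5, 4]], 0), ([[]], 0)]]

theorem witOKE6 : witOK chevE6 certE6 witE6 [1] = true := by decide +kernel

/-- Witnesses for type E7. -/
def witE7 : List (List (List (List ℕ) × ℕ)) :=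
  [[([[]], 0), ([[3, 2, 1, 3, 0, 2]], 0), ([[0, 2]], 0), ([[2, 3, 0, 2]], 0), ([[3, 4, 2, 3, 0, 2]], 0), ([[4, 5, 3, 4, 2, 3, 0, 2]], 0), ([[5, 6, 4, 5, 3, 4, 2, 3, 0, 2]], 0)], [([[2, 3, 0, 2, 1, 3]], 0), ([[]], 0), ([[3, 2, 1, 3]], 0), ([[1, 3]], 0), ([[3, 4, 1, 3]], 0), ([[4, 5, 3, 4, 1, 3]], 0), ([[5, 6, 4, 5, 3, 4, 1, 3]], 0)], [([[2, 0]], 0), ([[3, 2, 1, 3]], 0), ([[]], 0), ([[2, 3]], 0), ([[3, 4, 2, 3]], 0), ([[4, 5, 3, 4, 2, 3]], 0), ([[5, 6, 4, 5, 3, 4, 2, 3]], 0)], [([[2, 3, 0, 2]], 0), ([[3, 1]], 0), ([[3, 2]], 0), ([[]], 0), ([[3, 4]], 0), ([[4, 5, 3, 4]], 0), ([[5, 6, 4, 5, 3, 4]], 0)], [([[2, 3, 4, 0, 2, 3]], 0), ([[3, 4, 1, 3]], 0), ([[3, 4, 2, 3]], 0), ([[4, 3]], 0), ([[]], 0), ([[4, 5]], 0), ([[5, 6, 4, 5]], 0)], [([[2, 3, 4, 5, 0, 2, 3, 4]], 0), ([[3,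 4, 5, 1, 3, 4]], 0), ([[3, 4, 5, 2, 3, 4]], 0), ([[4, 5, 3, 4]], 0), ([[5, 4]], 0), ([[]], 0), ([[5, 6]], 0)], [([[2, 3, 4, 5, 6, 0, 2, 3, 4, 5]], 0), ([[3, 4, 5, 6, 1, 3, 4, 5]], 0), ([[3, 4, 5, 6, 2, 3, 4, 5]], 0), ([[4, 5, 6, 3, 4, 5]], 0), ([[5, 6, 4, 5]], 0), ([[6, 5]], 0), ([[]], 0)]]

theorem witOKE7 : witOK chevE7 certE7 witE7 [1] = true := by decide +kernel

/-- Witnesses for type E8. -/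
def witE8 : List (List (List (List ℕ) × ℕ)) :=
  [[([[]], 0), ([[3, 2, 1, 3, 0, 2]], 0), ([[0, 2]], 0), ([[2, 3, 0, 2]], 0), ([[3, 4, 2, 3, 0, 2]], 0), ([[4, 5, 3, 4, 2, 3, 0, 2]], 0), ([[5, 6, 4, 5, 3, 4, 2, 3, 0, 2]], 0), ([[6, 7, 5, 6, 4, 5, 3, 4, 2, 3, 0, 2]], 0)], [([[2, 3, 0, 2, 1, 3]], 0), ([[]], 0), ([[3, 2, 1, 3]], 0), ([[1, 3]], 0), ([[3, 4, 1, 3]], 0), ([[4, 5, 3, 4, 1, 3]], 0), ([[5, 6, 4, 5, 3, 4, 1, 3]], 0), ([[6, 7, 5, 6, 4, 5, 3, 4, 1, 3]], 0)], [([[2, 0]], 0), ([[3, 2, 1, 3]], 0), ([[]], 0), ([[2, 3]], 0), ([[3, 4, 2, 3]], 0), ([[4, 5, 3, 4, 2, 3]], 0), ([[5, 6, 4, 5, 3, 4, 2, 3]], 0), ([[6, 7, 5, 6, 4, 5, 3, 4, 2, 3]], 0)], [([[2, 3, 0, 2]], 0), ([[3, 1]], 0), ([[3, 2]], 0), ([[]], 0), ([[3, 4]], 0), ([[4, 5, 3, 4]], 0), ([[5, 6, 4, 5, 3, 4]], 0), ([[6,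 7, 5, 6, 4, 5, 3, 4]], 0)], [([[2, 3, 4, 0, 2, 3]], 0), ([[3, 4, 1, 3]], 0), ([[3, 4, 2, 3]], 0), ([[4, 3]], 0), ([[]], 0), ([[4, 5]], 0), ([[5, 6, 4, 5]], 0), ([[6, 7, 5, 6, 4, 5]], 0)], [([[2, 3, 4, 5, 0, 2, 3, 4]], 0), ([[3, 4, 5, 1, 3, 4]], 0), ([[3, 4, 5, 2, 3, 4]], 0), ([[4, 5, 3, 4]], 0), ([[5, 4]], 0), ([[]], 0), ([[5, 6]], 0), ([[6, 7, 5, 6]], 0)], [([[2, 3, 4, 5, 6, 0, 2, 3, 4, 5]], 0), ([[3, 4, 5, 6, 1, 3, 4, 5]], 0), ([[3, 4, 5, 6, 2, 3, 4, 5]], 0), ([[4, 5, 6, 3, 4, 5]], 0), ([[5, 6, 4, 5]], 0), ([[6, 5]], 0), ([[]], 0), ([[6, 7]], 0)], [([[2, 3, 4, 5, 6, 7, 0, 2, 3, 4, 5, 6]], 0), ([[3, 4, 5, 6, 7, 1, 3, 4, 5, 6]], 0), ([[3, 4, 5, 6, 7, 2, 3, 4, 5, 6]], 0), ([[4, 5, 6, 7, 3, 4, 5, 6]], 0), ([[5, 6, 7, 4, 5, 6]], 0), ([[6, 7, 5, 6]], 0), ([[7, 6]], 0), ([[]],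 0)]]

theorem witOKE8 : witOK chevE8 certE8 witE8 [1] = true := by decide +kernel

end Cfsg.Agent.Chev.ShortGen
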