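import Cfsg.Agent.Chev.TitsAll

set_option autoImplicit false

namespace Cfsg.Agent.Chev.Tits

open Cfsg.Lie

/-- A diagonal form of a Cartan matrix. -/
structure Snf where
  (U U' V V' : List (List ℤ))
  d : List ℕ

/-- The entry of a matrix given by lists. -/
def ent (M : List (List ℤ)) (i j : ℕ) : ℤ := (M.getD i []).getD j 0

/-- The product entry. -/
def mulE (l : ℕ) (A B : ℕ → ℕ → ℤ) (i j : ℕ) : ℤ := ((List.range l).map fun k => A i k * B k j).sum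

/-- The checks of a diagonal form. -/
def snfOK (D : ChevalleyDatum) (S : Snf) : Bool :=
  (List.range D.rank).all fun i => (List.range D.rank).all fun j =>
    decide (mulE D.rank (mulE D.rank (ent S.U) fun a b => D.cartan b (D.simple a)) (ent S.V) i j =
      if i = j then ((S.d.getD i 0 : ℕ) : ℤ) else 0) &&
    decide (mulE D.rank (ent S.U) (ent S.U') i j = if i = j then 1 else 0) &&
    decide (mulE D.rank (ent S.U') (ent S.U) i j = if i = j then 1 else 0) &&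
    decide (mulE D.rank (ent S.V) (ent S.V') i j = if i = j then 1 else 0) &&
    decide (mulE D.rank (ent S.V') (ent S.V) i j = if i = j then 1 else 0)

/-- The diagonal form for type G2. -/
def snfG2 : Snf :=
  ⟨[[-1, 0], [2, 1]], [[-1, 0], [2, 1]], [[0, 1], [1, 2]], [[-2, 1], [1, 0]], [1, 1]⟩

theorem snfOKG2 : snfOK chevG2 snfG2 = true := by decide +kernel

/-- The diagonal form for type B2. -/
def snfB2 : Snf :=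
  ⟨[[-1, 0], [2, 1]], [[-1, 0], [2, 1]], [[0, 1], [1, 2]], [[-2, 1], [1, 0]], [1, 2]⟩

theorem snfOKB2 : snfOK chevB2 snfB2 = true := by decide +kernel

/-- The diagonal form for type D4. -/
def snfD4 : Snf :=
  ⟨[[-1, 0, 0, 0], [-2, -1, 0, 0], [-3, -2, -1, 0], [2, 2, 1, 1]], [[-1, 0, 0, 0], [2, -1, 0, 0], [-1, 2, -1, 0], [-1, 0, 1, 1]], [[0, 0, 0, 1], [1, 0, 0, 2], [0, 1, -1, 1], [0, 0, 1, 2]], [[-2, 1, 0, 0], [-3, 0, 1, 1], [-2, 0, 0, 1], [1, 0, 0, 0]], [1, 1, 2, 2]⟩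

theorem snfOKD4 : snfOK chevD4 snfD4 = true := by decide +kernel

/-- The diagonal form for type F4. -/
def snfF4 : Snf :=
  ⟨[[-1, 0, 0, 0], [-2, -1, 0, 0], [-2, -2, -1, 0], [2, 3, 2, 1]], [[-1, 0, 0, 0], [2, -1, 0, 0], [-2, 2, -1, 0], [0, -1, 2, 1]], [[0, 0, 0, 1], [1, 0, 0, 2], [0, 1, 0, 3], [0, 0, 1, 2]], [[-2, 1, 0, 0], [-3, 0, 1, 0], [-2, 0, 0, 1], [1, 0, 0, 0]], [1, 1, 1, 1]⟩

theorem snfOKF4 : snfOK chevF4 snfF4 = true := by decide +kernel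

/-- The diagonal form for type E6. -/
def snfE6 : Snf :=
  ⟨[[-1, 0, 0, 0, 0, 0], [0, -1, 0, 0, 0, 0], [1, -2, 0, -1, 0, 0], [2, -3, 0, -2, -1, 0], [-2, 1, -1, 0, 0, 0], [-5, 0, -4, -3, -2, -1]], [[-1, 0, 0, 0, 0, 0], [0, -1, 0, 0, 0, 0], [2, -1, 0, 0, -1, 0], [-1, 2, -1, 0, 0, 0], [0, -1, 2, -1, 0, 0], [0, 0, -1, 2, 4, -1]], [[0, 0, 0, 0, 1, -2], [0, 0, 0, 0, 2, -3], [1, 0, 0, 0, 2, -4], [0, 1, 0, 0, 4, -6], [0, 0, 1, 0, 4, -5], [0, 0, 0, 1, 4, -4]], [[-2, 0, 1, 0, 0, 0], [0, -2, 0, 1, 0, 0], [2, -3, 0, 0, 1, 0], [4, -4, 0, 0, 0, 1], [-3, 2, 0, 0, 0, 0], [-2, 1, 0, 0, 0, 0]], [1, 1, 1, 1, 1, 3]⟩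

theorem snfOKE6 : snfOK chevE6 snfE6 = true := by decide +kernel

/-- The diagonal form for type E7. -/
def snfE7 : Snf :=
  ⟨[[-1, 0, 0, 0, 0, 0, 0], [0, -1, 0, 0, 0, 0, 0], [1, -2, 0, -1, 0, 0, 0], [2, -3, 0, -2, -1, 0, 0], [3, -4, 0, -3, -2, -1, 0], [-2, 1, -1, 0, 0, 0, 0], [-4, -1, -4, -4, -3, -2, -1]], [[-1, 0, 0, 0, 0, 0, 0], [0, -1, 0, 0, 0, 0, 0], [2, -1, 0, 0, 0, -1, 0], [-1, 2, -1, 0, 0, 0, 0], [0, -1, 2, -1, 0, 0, 0], [0, 0, -1, 2, -1, 0, 0], [0, 0, 0, -1, 2, 4, -1]], [[0, 0, 0, 0, 0, 1, -2], [0, 0, 0, 0, 0, 2, -3], [1, 0, 0, 0, 0, 2, -4], [0, 1, 0, 0, 0, 4, -6], [0, 0, 1, 0, 0, 4, -5], [0, 0, 0, 1, 0, 4, -4], [0, 0, 0, 0, 1, 4, -3]], [[-2, 0, 1, 0, 0, 0, 0], [0, -2, 0, 1, 0, 0, 0], [2, -3, 0, 0, 1, 0, 0], [4, -4, 0, 0, 0, 1, 0], [6, -5, 0, 0, 0, 0, 1], [-3, 2, 0, 0, 0, 0, 0], [-2, 1,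 0, 0, 0, 0, 0]], [1, 1, 1, 1, 1, 1, 2]⟩

theorem snfOKE7 : snfOK chevE7 snfE7 = true := by decide +kernel

/-- The diagonal form for type E8. -/
def snfE8 : Snf :=
  ⟨[[-1, 0, 0, 0, 0, 0, 0, 0], [0, -1, 0, 0, 0, 0, 0, 0], [1, -2, 0, -1, 0, 0, 0, 0], [2, -3, 0, -2, -1, 0, 0, 0], [3, -4, 0, -3, -2, -1, 0, 0], [4, -5, 0, -4, -3, -2, -1, 0], [-2, 1, -1, 0, 0, 0, 0, 0], [-3, -2, -4, -5, -4, -3, -2, -1]], [[-1, 0, 0, 0, 0, 0, 0, 0], [0, -1, 0, 0, 0, 0, 0, 0], [2, -1, 0, 0, 0, 0, -1, 0], [-1, 2, -1, 0, 0, 0, 0, 0], [0, -1, 2, -1, 0, 0, 0, 0], [0, 0, -1, 2, -1, 0, 0, 0], [0, 0, 0, -1, 2, -1, 0, 0], [0, 0, 0, 0, -1, 2, 4, -1]], [[0, 0, 0, 0, 0, 0, 1, -2], [0, 0, 0, 0, 0, 0, 2, -3], [1, 0, 0, 0, 0, 0, 2, -4], [0, 1, 0, 0, 0, 0, 4, -6], [0, 0, 1, 0, 0, 0, 4, -5], [0, 0, 0, 1, 0, 0, 4, -4], [0, 0, 0, 0, 1, 0,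 4, -3], [0, 0, 0, 0, 0, 1, 4, -2]], [[-2, 0, 1, 0, 0, 0, 0, 0], [0, -2, 0, 1, 0, 0, 0, 0], [2, -3, 0, 0, 1, 0, 0, 0], [4, -4, 0, 0, 0, 1, 0, 0], [6, -5, 0, 0, 0, 0, 1, 0], [8, -6, 0, 0, 0, 0, 0, 1], [-3, 2, 0, 0, 0, 0, 0, 0], [-2, 1, 0, 0, 0, 0, 0, 0]], [1, 1, 1, 1, 1, 1, 1, 1]⟩

theorem snfOKE8 : snfOK chevE8 snfE8 = true := by decide +kernel

end Cfsg.Agent.Chev.Tits
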