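import Cfsg.Agent.Chev.WeylElemsCheck
import Cfsg.Agent.Chev.CertB2
import Cfsg.Agent.Chev.CertG2
import Cfsg.Agent.Chev.CertD4
import Cfsg.Agent.Chev.CertF4
import Cfsg.Agent.Chev.CertE6
import Cfsg.Agent.Chev.CertE7
import Cfsg.Agent.Chev.CertE8

set_option autoImplicit false
set_option maxRecDepth 100000

namespace Cfsg.Agent.Chev.Tits

open Cfsg.Lie

def wgTB2 : List (List ℕ × ℕ) := [([], 1)]
def wgPB2 : List (List ℕ × List ℕ) := [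
  ([0], [0, 1]),
  ([1], [1])]
theorem wgNegB2 : negSimpleB chevB2 certB2 = true := by decide +kernel
theorem wgLinkB2 : linkB chevB2 certB2 = true := by decide +kernel
theorem wgDerivB2 : ((List.range chevB2.rank).all fun i => derivB chevB2 certB2
    (List.range chevB2.rank :: wgTB2.map fun p => p.1 ++ [p.2] ++ p.1.reverse) wgPB2 [i]) = true := by decide +kernel
theorem wgMinusB2 : minusB chevB2 certB2 (List.replicate 2 (List.range chevB2.rank)).flatten = true := by decide +kernel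

def wgTG2 : List (List ℕ × ℕ) := [([], 1)]
def wgPG2 : List (List ℕ × List ℕ) := [
  ([0], [0, 1]),
  ([1], [1])]
theorem wgNegG2 : negSimpleB chevG2 certG2 = true := by decide +kernel
theorem wgLinkG2 : linkB chevG2 certG2 = true := by decide +kernel
theorem wgDerivG2 : ((List.range chevG2.rank).all fun i => derivB chevG2 certG2
    (List.range chevG2.rank :: wgTG2.map fun p => p.1 ++ [p.2] ++ p.1.reverse) wgPG2 [i]) = true := by decide +kernel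
theorem wgMinusG2 : minusB chevG2 certG2 (List.replicate 3 (List.range chevG2.rank)).flatten = true := by decide +kernel

def wgTD4 : List (List ℕ × ℕ) := [([], 3), ([], 2)]
def wgPD4 : List (List ℕ × List ℕ) := [
  ([0], [0, 0, 1, 0, 1, 0, 0, 2]),
  ([1], [0, 1, 0, 0, 2, 0, 2, 0]),
  ([2], [2]),
  ([3], [1])]
theorem wgNegD4 : negSimpleB chevD4 certD4 = true := by decide +kernel
theorem wgLinkD4 : linkB chevD4 certD4 = true := by decide +kernel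
theorem wgDerivD4 : ((List.range chevD4.rank).all fun i => derivB chevD4 certD4
    (List.range chevD4.rank :: wgTD4.map fun p => p.1 ++ [p.2] ++ p.1.reverse) wgPD4 [i]) = true := by decide +kernel
theorem wgMinusD4 : minusB chevD4 certD4 (List.replicate 3 (List.range chevD4.rank)).flatten = true := by decide +kernel

def wgTF4 : List (List ℕ × ℕ) := [([], 3), ([], 1)]
def wgPF4 : List (List ℕ × List ℕ) := [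
  ([0], [1, 2, 0, 1, 2, 0, 1, 2, 0, 1, 0]),
  ([1], [2]),
  ([2], [1, 0, 1, 0, 1, 0, 1, 0, 1, 0, 0]),
  ([3], [1])]
theorem wgNegF4 : negSimpleB chevF4 certF4 = true := by decide +kernel
theorem wgLinkF4 : linkB chevF4 certF4 = true := by decide +kernel
theorem wgDerivF4 : ((List.range chevF4.rank).all fun i => derivB chevF4 certF4
    (List.range chevF4.rank :: wgTF4.map fun p => p.1 ++ [p.2] ++ p.1.reverse) wgPF4 [i]) = true := by decide +kernel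
theorem wgMinusF4 : minusB chevF4 certF4 (List.replicate 6 (List.range chevF4.rank)).flatten = true := by decide +kernel

def wgTE6 : List (List ℕ × ℕ) := [([], 5)]
def wgPE6 : List (List ℕ × List ℕ) := [
  ([5, 4, 3, 2, 1, 0], [0, 0, 0, 0, 0, 0, 0, 0, 0, 0, 0]),
  ([5, 4, 1, 3, 2, 0, 2, 3, 1, 4, 5], [0, 1, 2]),
  ([3, 2, 3], [0, 3, 2]),
  ([4, 3, 1, 3, 4], [0, 4, 2]),
  ([5, 4, 3, 2, 0, 2, 3, 4, 5], [0, 5, 2]),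
  ([0], [0, 6, 2]),
  ([2], [0, 7, 2]),
  ([3, 1, 3], [0, 8, 2]),
  ([4, 3, 2, 0, 2, 3, 4], [0, 9, 2]),
  ([5, 4, 2, 3, 1, 3, 2, 4, 5], [0, 10, 2]),
  ([3], [0, 11, 2]),
  ([4], [0, 12, 2]),
  ([5, 4, 3, 1, 3, 4, 5], [1, 5, 1]),
  ([1], [0, 14, 2])]
theorem wgNegE6 : negSimpleB chevE6 certE6 = true := by decide +kernel
theorem wgLinkE6 : linkB chevE6 certE6 = true := by decide +kernel
theorem wgDerivE6 : ((List.range chevE6.rank).all fun i => derivB chevE6 certE6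
    (List.range chevE6.rank :: wgTE6.map fun p => p.1 ++ [p.2] ++ p.1.reverse) wgPE6 [i]) = true := by decide +kernel
theorem wgVecE6 : invVecB chevE6 [1, 0, 2, 0, 1, 2] = true := by decide +kernel

def wgTE7 : List (List ℕ × ℕ) := [([], 6)]
def wgPE7 : List (List ℕ × List ℕ) := [
  ([6, 5, 4, 3, 2, 1, 0], [0, 0, 0, 0, 0, 0, 0, 0, 0, 0, 0, 0, 0, 0, 0, 0, 0]),
  ([6, 5, 4, 1, 3, 2, 0, 2, 3, 1, 4, 5, 6], [0, 1, 2]),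
  ([3, 2, 3], [0, 3, 2]),
  ([4, 3, 1, 3, 4], [0, 4, 2]),
  ([5, 4, 3, 2, 0, 2, 3, 4, 5], [0, 5, 2]),
  ([6, 5, 4, 2, 3, 1, 3, 2, 4, 5, 6], [0, 6, 2]),
  ([3], [0, 7, 2]),
  ([4], [0, 8, 2]),
  ([5], [0, 9, 2]),
  ([5, 4, 1, 3, 2, 0, 2, 3, 1, 4, 5], [1, 3, 1]),
  ([6, 5, 2, 3, 4, 1, 3, 2, 0, 2, 3, 1, 4, 3, 2, 5, 6], [0, 11, 2]),
  ([3, 4, 2, 3, 1, 3, 2, 4, 3], [0, 12, 2]),
  ([4, 5, 3, 4, 1, 3, 2, 0, 2, 3, 1, 4, 3, 5, 4], [0, 13, 2]),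
  ([6, 5, 4, 3, 2, 0, 2, 3, 4, 5, 6], [1, 6, 1]),
  ([0], [0, 15, 2]),
  ([2], [0, 16, 2]),
  ([6, 4, 5, 3, 4, 1, 3, 2, 0, 2, 3, 1, 4, 3, 5, 4, 6], [1, 14, 1]),
  ([5, 4, 3, 2, 3, 4, 5], [0, 18, 2]),
  ([6, 5, 4, 3, 1, 3, 4, 5, 6], [0, 19, 2]),
  ([1], [0, 20, 2])]
theorem wgNegE7 : negSimpleB chevE7 certE7 = true := by decide +kernel
theorem wgLinkE7 : linkB chevE7 certE7 = true := by decide +kernel
theorem wgDerivE7 : ((List.range chevE7.rank).all fun i => derivB chevE7 certE7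
    (List.range chevE7.rank :: wgTE7.map fun p => p.1 ++ [p.2] ++ p.1.reverse) wgPE7 [i]) = true := by decide +kernel
theorem wgMinusE7 : minusB chevE7 certE7 (List.replicate 9 (List.range chevE7.rank)).flatten = true := by decide +kernel

def wgTE8 : List (List ℕ × ℕ) := [([], 7)]
def wgPE8 : List (List ℕ × List ℕ) := [
  ([7, 6, 5, 4, 3, 2, 1, 0], [0, 0, 0, 0, 0, 0, 0, 0, 0, 0, 0, 0, 0, 0, 0, 0, 0, 0, 0, 0, 0, 0, 0, 0, 0, 0, 0, 0, 0]),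
  ([7, 6, 5, 4, 1, 3, 2, 0, 2, 3, 1, 4, 5, 6, 7], [0, 1, 2]),
  ([3, 2, 3], [0, 3, 2]),
  ([4, 3, 1, 3, 4], [0, 4, 2]),
  ([5, 4, 3, 2, 0, 2, 3, 4, 5], [0, 5, 2]),
  ([6, 5, 4, 2, 3, 1, 3, 2, 4, 5, 6], [0, 6, 2]),
  ([7, 6, 5, 3, 4, 1, 3, 2, 0, 2, 3, 1, 4, 3, 5, 6, 7], [0, 7, 2]),
  ([4, 3, 2, 3, 4], [0, 8, 2]),
  ([5, 4, 3, 1, 3, 4, 5], [0, 9, 2]),
  ([6, 5, 4, 3, 2, 0, 2, 3, 4, 5, 6], [0, 10, 2]),
  ([7, 6, 5, 4, 2, 3, 1, 3, 2, 4, 5, 6, 7], [0, 11, 2]),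
  ([3], [0, 12, 2]),
  ([4], [0, 13, 2]),
  ([5], [0, 14, 2]),
  ([6], [0, 15, 2]),
  ([6, 5, 4, 1, 3, 2, 0, 2, 3, 1, 4, 5, 6], [1, 3, 1]),
  ([7, 6, 5, 2, 3, 4, 1, 3, 2, 0, 2, 3, 1, 4, 3, 2, 5, 6, 7], [0, 17, 2]),
  ([3, 4, 2, 3, 1, 3, 2, 4, 3], [0, 18, 2]),
  ([4, 5, 3, 4, 1, 3, 2, 0, 2, 3, 1, 4, 3, 5, 4], [0, 19, 2]),
  ([5, 6, 4, 5, 2, 3, 4, 1, 3, 2, 0, 2, 3, 1, 4, 3, 2, 5, 4, 6, 5], [0, 20, 2]),
  ([6, 7, 5, 6, 1, 3, 4, 5, 2, 3, 4, 1, 3, 2, 0, 2, 3, 1, 4, 3, 2, 5, 4, 3, 1, 6, 5, 7, 6], [0, 21, 2]),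
  ([7, 6, 3, 4, 5, 2, 3, 4, 1, 3, 2, 0, 2, 3, 1, 4, 3, 2, 5, 4, 3, 6, 7], [0, 22, 2]),
  ([6, 5, 3, 4, 1, 3, 2, 0, 2, 3, 1, 4, 3, 5, 6], [1, 8, 1]),
  ([7, 6, 4, 5, 2, 3, 4, 1, 3, 2, 0, 2, 3, 1, 4, 3, 2, 5, 4, 6, 7], [0, 24, 2]),
  ([5, 3, 4, 2, 3, 1, 3, 2, 4, 3, 5], [0, 25, 2]),
  ([6, 4, 5, 3, 4, 1, 3, 2, 0, 2, 3, 1, 4, 3, 5, 4, 6], [0, 26, 2]),
  ([7, 5, 6, 4, 5, 2, 3, 4, 1, 3, 2, 0, 2, 3, 1, 4, 3, 2, 5, 4, 6, 5, 7], [0, 27, 2]),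
  ([6, 5, 3, 4, 2, 3, 1, 3, 2, 4, 3, 5, 6], [0, 28, 2]),
  ([7, 6, 4, 5, 3, 4, 1, 3, 2, 0, 2, 3, 1, 4, 3, 5, 4, 6, 7], [0, 29, 2]),
  ([5, 4, 3, 2, 3, 4, 5], [0, 30, 2]),
  ([6, 5, 4, 3, 1, 3, 4, 5, 6], [0, 31, 2]),
  ([7, 6, 5, 4, 3, 2, 0, 2, 3, 4, 5, 6, 7], [0, 32, 2]),
  ([0], [0, 33, 2]),
  ([2], [0, 34, 2]),
  ([6, 3, 4, 5, 2, 3, 4, 1, 3, 2, 0, 2, 3, 1, 4, 3, 2, 5, 4, 3, 6], [1, 23, 1]),
  ([7, 4, 5, 6, 1, 3, 4, 5, 2, 3, 4, 1, 3, 2, 0, 2, 3, 1, 4, 3, 2, 5, 4, 3, 1, 6, 5, 4, 7], [0, 36, 2]),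
  ([5, 6, 3, 4, 5, 2, 3, 4, 1, 3, 2, 0, 2, 3, 1, 4, 3, 2, 5, 4, 3, 6, 5], [0, 37, 2]),
  ([6, 7, 4, 5, 6, 1, 3, 4, 5, 2, 3, 4, 1, 3, 2, 0, 2, 3, 1, 4, 3, 2, 5, 4, 3, 1, 6, 5, 4, 7, 6], [0, 38, 2]),
  ([7, 5, 6, 3, 4, 5, 2, 3, 4, 1, 3, 2, 0, 2, 3, 1, 4, 3, 2, 5, 4, 3, 6, 5, 7], [0, 39, 2]),
  ([6, 4, 5, 3, 4, 2, 3, 1, 3, 2, 4, 3, 5, 4, 6], [0, 40, 2]),
  ([7, 5, 6, 4, 5, 3, 4, 1, 3, 2, 0, 2, 3, 1, 4, 3, 5, 4, 6, 5, 7], [0, 41, 2]),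
  ([6, 5, 4, 3, 2, 3, 4, 5, 6], [0, 42, 2]),
  ([7, 6, 5, 4, 3, 1, 3, 4, 5, 6, 7], [0, 43, 2]),
  ([1], [0, 44, 2])]
theorem wgNegE8 : negSimpleB chevE8 certE8 = true := by decide +kernel
theorem wgLinkE8 : linkB chevE8 certE8 = true := by decide +kernel
theorem wgDerivE8 : ((List.range chevE8.rank).all fun i => derivB chevE8 certE8
    (List.range chevE8.rank :: wgTE8.map fun p => p.1 ++ [p.2] ++ p.1.reverse) wgPE8 [i]) = true := by decide +kernel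
theorem wgMinusE8 : minusB chevE8 certE8 (List.replicate 15 (List.range chevE8.rank)).flatten = true := by decide +kernel

end Cfsg.Agent.Chev.Tits
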